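import Mathlib
import Cfsg.Agent.Lib.Chars.Basic

/-!
The average of `χ (g * g)` over the group is an integer, for every character `χ`.
-/

set_option autoImplicit false
set_option maxHeartbeats 400000

namespace Cfsg.Agent.Lib.Indicator

open scoped Kronecker
open Matrix

theorem exists_nat_trace_of_idempotent {ι : Type*} [Fintype ι] [DecidableEq ι]
    {E : Matrix ι ι ℂ} (h : E * E = E) : ∃ k : ℕ, E.trace = k := by
  have hp : LinearMap.IsProj (LinearMap.range E.toLin') E.toLin' := by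
    refine ⟨fun x => LinearMap.mem_range_self _ x, ?_⟩
    rintro _ ⟨x, rfl⟩
    rw [← LinearMap.comp_apply, ← Matrix.toLin'_mul, h]
  exact ⟨_, (Matrix.trace_toLin'_eq E).symm.trans hp.trace⟩

variable {G : Type*} [Group G] [Fintype G] {ι : Type*} [Fintype ι] [DecidableEq ι]

theorem exists_int_avg_trace_sq (M : G →* Matrix ι ι ℂ) :
    ∃ z : ℤ, (Nat.card G : ℂ)⁻¹ * ∑ g : G, (M (g * g)).trace = z := by
  set c : ℂ := (Nat.card G : ℂ)⁻¹ with hc
  set P : Matrix (ι × ι) (ι × ι) ℂ := c • ∑ g : G, M g ⊗ₖ M g with hP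
  have hPP : P * P = P := by
    have h1 : ∀ g : G, ∑ h : G, (M g ⊗ₖ M g) * (M h ⊗ₖ M h) = ∑ h : G, M h ⊗ₖ M h := by
      intro g
      rw [← Equiv.sum_comp (Equiv.mulLeft g) (fun h => M h ⊗ₖ M h)]
      refine Finset.sum_congr rfl fun h _ => ?_
      rw [Equiv.coe_mulLeft, map_mul, ← Matrix.mul_kronecker_mul]
    rw [hP, smul_mul_assoc, mul_smul_comm, Finset.sum_mul]
    simp only [Finset.mul_sum, h1, Finset.sum_const, Finset.card_univ]
    rw [← Nat.cast_smul_eq_nsmul ℂ, smul_smul, smul_smul, ← Nat.card_eq_fintype_card]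
    congr 1
    rw [hc]
    field_simp
  have hsw : ∀ a b : ι × ι, P a.swap b.swap = P a b := by
    intro a b
    simp [hP, Matrix.sum_apply, mul_comm]
  set A : Matrix (ι × ι) (ι × ι) ℂ := P.submatrix Prod.swap id with hA
  have hsum : ∀ f : ι × ι → ℂ, ∑ x : ι × ι, f x.swap = ∑ x : ι × ι, f x := fun f =>
    Equiv.sum_comp (Equiv.prodComm ι ι) f
  have hAA : A * A = P := by
    ext a b
    conv_rhs => rw [← hPP]
    simp only [hA, Matrix.mul_apply, Matrix.submatrix_apply, id_eq]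
    rw [← hsum (fun x => P a.swap x * P x.swap b)]
    simp only [Prod.swap_swap, hsw]
  have hAP : A * P = A := by
    ext a b
    conv_rhs => rw [hA, Matrix.submatrix_apply, id_eq, ← hPP]
    simp only [hA, Matrix.mul_apply, Matrix.submatrix_apply, id_eq]
  have hPA : P * A = A := by
    ext a b
    conv_rhs => rw [hA, Matrix.submatrix_apply, id_eq, ← hPP]
    simp only [hA, Matrix.mul_apply, Matrix.submatrix_apply, id_eq]
    rw [← hsum (fun x => P a x * P x.swap b)]
    refine Finset.sum_congr rfl fun x _ => ?_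
    rw [Prod.swap_swap, ← hsw a x.swap, Prod.swap_swap]
  have hE : ((2 : ℂ)⁻¹ • (P + A)) * ((2 : ℂ)⁻¹ • (P + A)) = (2 : ℂ)⁻¹ • (P + A) := by
    rw [smul_mul_assoc, mul_smul_comm, smul_smul, Matrix.add_mul, Matrix.mul_add, Matrix.mul_add,
      hPP, hAA, hAP, hPA]
    clear_value P A
    match_scalars <;> norm_num
  obtain ⟨k, hk⟩ := exists_nat_trace_of_idempotent hE
  obtain ⟨l, hl⟩ := exists_nat_trace_of_idempotent hPP
  refine ⟨2 * (k : ℤ) - l, ?_⟩
  have htr : A.trace = c * ∑ g : G, (M (g * g)).trace := by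
    simp only [Matrix.trace, Matrix.diag_apply, hA, Matrix.submatrix_apply, id_eq, hP,
      Matrix.smul_apply, Matrix.sum_apply, Matrix.kroneckerMap_apply, smul_eq_mul, map_mul,
      Matrix.mul_apply]
    rw [← Finset.mul_sum, Finset.sum_comm]
    congr 1
    refine Finset.sum_congr rfl fun g _ => ?_
    rw [Fintype.sum_prod_type]
    refine Finset.sum_congr rfl fun i _ => Finset.sum_congr rfl fun j _ => ?_
    simp [mul_comm]
  rw [Matrix.trace_smul, Matrix.trace_add, smul_eq_mul, hl, htr] at hk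
  push_cast
  linear_combination 2 * hk

theorem exists_int_avg_char_sq {χ : G → ℂ} (h : Cfsg.IsCharacter G χ) :
    ∃ z : ℤ, (Nat.card G : ℂ)⁻¹ * ∑ g : G, χ (g * g) = z := by
  obtain ⟨n, ρ, rfl⟩ := h
  obtain ⟨z, hz⟩ := exists_int_avg_trace_sq
    ((LinearMap.toMatrixAlgEquiv' (R := ℂ) (n := Fin n)).toMonoidHom.comp ρ)
  refine ⟨z, ?_⟩
  rw [← hz]
  congr 1
  refine Finset.sum_congr rfl fun g _ => ?_
  rw [Representation.character, LinearMap.trace_eq_matrix_trace ℂ (Pi.basisFun ℂ (Fin n))]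
  rfl

end Cfsg.Agent.Lib.Indicator
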